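import Cfsg.Agent.J4Rep94.C4.Data

/-!
# Certificate data
-/

set_option autoImplicit false
set_option maxRecDepth 100000

namespace Cfsg.Agent.J4Rep94.C4

open Cfsg.Agent.CosetEnum

def fv0 : ℕ := 0x61000010005e0016b00002000310000800154000010005c00169000020005e0000600156000010005a00167000020007000008000de000010005800165000020006f00006000dc000010005600163000020006e00007000da000010005400160000020006d0000600000000d8000d6000d4000d2000d0000ce000cc000ca000c8000c6000c4000c2000c0000be001590002100023000250002700029000e1000e3000ed000ef000f1000f30015c0014a0015e00152001500014e0014c000580005600054000240002a000050014b0015d000f2000f0000ee000ec000e20015a0002d0002f00031000330003500037000390003b0003d0003f000410004300045000470001600152001500014e0014c00058000560005400052000500004e0004c0004a000480000d0002400004000f2000f0000ee000ec000e20015a000060014a00148001460014400142001400013e0013c0013a00138001360013400132001300012e0012c0012a00128001260012400122001200011e0011c0011a00118001160011400112001100010e0010c0010a0010800106001040010200100000fe000fc000fa000f8000f6000f4000ea000e8000e6000e40002c000310001600003000e0000010002a0000100015000020001e00001000bc000010000f00002001550006000002000de000dc000da000d8000d6000d4000d2000d0000ce000cc000ca000c8000c6000c4000c2000c0000be000bc0001c0001a00018000160001400012000100000e0000c0000a00008000060000400002000000002100000000010006000001000ba000b8000b6000b4000b2000b0000ae000ac000aa000a8000a6000a4000a2000a00009e0009c0009a00098000960009400092000900008e0008c0008a00088000860008400082000800007e0007c0007a00078000760007400072000700006e0006c0006a00068000660006400062000100000e0000c0000a0000800006000040000200000000360000000000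
theorem fok0 : sys.checkFacts 170 13 fv0 = true := by decide +kernel


end Cfsg.Agent.J4Rep94.C4
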