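import Cfsg.Agent.J4Rep94.P7
import Cfsg.Agent.J4Rep94.Orbit

/-!
# Certificate data
-/

set_option autoImplicit false
set_option maxRecDepth 100000

namespace Cfsg.Agent.J4Rep94.C4

open Cfsg.Agent.CosetEnum

def fxL0 : ℕ := 0xc00000000c06000620005e30005e0002e180038000168c001bc000b06000dc0005630002a0006d0800528005504001e8002982000e20002c1000100005f10002f0003800000c400178000154001522000a9000a800005400053840029c000b400014c0014a2000a5000a400005200051840028c00288000144001421000a1000a00000500004f880027c0027800013c0013a10009d0009c00004e0004d880026c00268000134001321000990009800004c0004b880025c0025800012c0012a1000950009400004a00049840024c00248000124001222000910009000004800047840023c0023800011c0011a20008d0008c00004600045840022c00228000114001122000890008800004400043840021c0021800010c0010a1000850008400004200041880020c0020800010400102100081000800000400003f88001fc001f80000fc000fa10007d0007c00003e0003d88001ec001d80000f4000f21000790007800003c0003b88001dc001c80000ec000ea1000750007400003a0003984001cc0005c0000e4000e2200071000150000380003784001bc001b80000dc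000da20006d0006c0000360003588001ac001a80000d4000d21000690006800003400033880019c001980000cc000ca2000650006400003200031840018c001880000c4000c2200061000600000300002f840017c0003c2000bc000ba00005d0005c10002e0002d800016c001682000b4000b20000590005810002c0002b800015c001582000ac000aa0000550005408002a00029800014c001484000a4000a20000510005008002800027800013c0013840009c0009a00004d0004c08002600025800012c00128400094000920000490004808002400023800011c0011820008c0008a0000450004410002200021800010c0010820008400082000041000401000200001f80000fc000f820007c0007a00003d0003c10001e0001d80000ec000e8200074000720000390003808001c0001b80000dc000d840006c0006a0000350003408001a0001980000cc000c840006400012100031000001000180001780000bc000b840005c0005a00002d0002c0800160001580000ac000a8400054000520000290002808001400013800009c0009820004c0004a0000250002410001200011800008c0008840004400042000021000200800100000f800007c0007840003c0003a00001d0001c10000e0000d800006c00068200034000320000190001810000c0000b800005c0005820002c0002a0000150001408000a00009800004c00048400024000220000110001010000800007800003c0003820001c0001a00000d0000c10000600005800002c00028200014000120000090000808000400003800001c0001840000c0000a0000050000408000200001800000c000082000040000200000100000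
def fx : PTree := (.leaf fxL0)
def rules0 : DTree Rule := (.node 4 (.node 2 (.node 1 (.leaf ⟨0, [0,1,0,1,0,2,0,1,0,2,0,1,0,2,0,1,0,1,0,2,0,1,0,2,0,1,0,2,0,1,0,1,0,2,0,1,0,2,0,1,0,2,0,1,0,1,0,2,0,1,0,2,0,1], [1], false, 7, 0⟩) (.leaf ⟨2, [0,1,0,1,0,2,0,1,0,1,0,2,0,1,0,1,0,2,0,1,0,2,0,2,0,1,0,2,0,2,0,1,0], [1,0], false, 8, 0⟩)) (.node 1 (.leaf ⟨1, [1], [2], false, 3, 0⟩) (.leaf ⟨1, [0,1,0,1,0,2,0,1,0,2,0,1,0,2,0,1,0,1,0,2,0,1,0,2,0,1,0,2,0,1,0,1,0,2,0,1,0,2,0,1,0,2,0,1,0,1,0,2,0], [1,0,2,0,1,0], false, 7, 0⟩))) (.node 2 (.node 1 (.leaf ⟨1, [0,1,0,1,0,2,0,1,0,1,0,2,0], [1,0,1,0,2,0,1,0,1,0,2,0,1,0,1,0,2,0,1,0,2,0], false, 8, 0⟩) (.leaf ⟨3, [0,1,0,1,0,2,0,1,0,1,0,2,0,1,0,1,0,2,0,1,0,2,0,2,0,1,0,2,0,2,0,1,0,2,0,2], [], false, 8, 0⟩)) (.node 1 (.leaf ⟨3, [0], [0], false, 0, 0⟩) (.node 1 (.leaf ⟨3, [1], [1], false, 1, 0⟩) (.leaf ⟨3, [2], [2], false, 2, 0⟩)))))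
def rules : DTree Rule := rules0
def sys : Sys := ⟨3, 0x18440, fx, rules⟩
def rels : List (List ℕ) := baseRels ++ []
def subs : List (List ℕ) := []

end Cfsg.Agent.J4Rep94.C4
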